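import Mathlib

set_option autoImplicit false
universe u

open IsLocalRing

namespace Groth.Agent.H5.HBLift

section gens

variable {C' : Type u} [CommRing C'] [IsLocalRing C']

/-- dropping a generator with unit coefficient in a relation. -/
lemma span_succAbove_eq {n : ℕ} (j : Fin (n + 1) → C') (a : Fin (n + 1) → C') (l₀ : Fin (n + 1))
    (hrel : ∑ l, a l * j l = 0) (hu : IsUnit (a l₀)) :
    Ideal.span (Set.range (j ∘ l₀.succAbove)) = Ideal.span (Set.range j) := by
  apply le_antisymm
  · apply Ideal.span_mono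
    rintro _ ⟨i, rfl⟩
    exact ⟨l₀.succAbove i, rfl⟩
  · rw [Ideal.span_le]
    rintro _ ⟨l, rfl⟩
    by_cases hl : l = l₀
    · subst hl
      rw [Fin.sum_univ_succAbove _ l] at hrel
      obtain ⟨b, hb⟩ := hu.exists_left_inv
      have h1 : j l = - ∑ i, b * a (l.succAbove i) * j (l.succAbove i) := by
        have h2 : a l * j l = - ∑ i, a (l.succAbove i) * j (l.succAbove i) :=
          eq_neg_of_add_eq_zero_left hrel
        calc j l = (b * a l) * j l := by rw [hb, one_mul]
          _ = b * (a l * j l) := by ring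
          _ = - ∑ i, b * a (l.succAbove i) * j (l.succAbove i) := by
            rw [h2, mul_neg, Finset.mul_sum]
            congr 1
            refine Finset.sum_congr rfl fun i _ => ?_
            ring
      rw [h1]
      refine Ideal.neg_mem_iff _ |>.mpr (Ideal.sum_mem _ fun i _ => ?_)
      exact Ideal.mul_mem_left _ _ (Ideal.subset_span ⟨i, rfl⟩)
    · obtain ⟨i, rfl⟩ := Fin.exists_succAbove_eq hl
      exact Ideal.subset_span ⟨i, rfl⟩

lemma ind_of_minimal (J : Ideal C') (n : ℕ) (j : Fin n → C') (hj : Ideal.span (Set.range j) = J)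
    (hmin : ∀ n' < n, ¬ ∃ j' : Fin n' → C', Ideal.span (Set.range j') = J)
    (a : Fin n → C') (hrel : ∑ l, a l * j l = 0) (l₀ : Fin n) : a l₀ ∈ maximalIdeal C' := by
  by_contra hl₀
  have hu : IsUnit (a l₀) := by
    by_contra h
    exact hl₀ ((IsLocalRing.mem_maximalIdeal _).mpr h)
  cases n with
  | zero => exact l₀.elim0
  | succ k =>
    exact hmin k (Nat.lt_succ_self k) ⟨j ∘ l₀.succAbove, by rw [span_succAbove_eq j a l₀ hrel hu, hj]⟩

/-- minimal generators of a finitely generated ideal of a local ring are independent modulo the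
maximal ideal. -/
theorem exists_gens [IsNoetherianRing C'] (J : Ideal C') :
    ∃ (n : ℕ) (j : Fin n → C'), Ideal.span (Set.range j) = J ∧
      ∀ a : Fin n → C', ∑ l, a l * j l = 0 → ∀ l, a l ∈ maximalIdeal C' := by
  classical
  have hex : ∃ n, ∃ j : Fin n → C', Ideal.span (Set.range j) = J := by
    obtain ⟨s, hs⟩ := (isNoetherianRing_iff_ideal_fg C').mp inferInstance J
    refine ⟨s.card, fun i => (s.equivFin.symm i : C'), ?_⟩
    rw [← hs]
    congr 1
    ext x
    constructor
    · rintro ⟨i, rfl⟩
      exact (s.equivFin.symm i).2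
    · intro hx
      exact ⟨s.equivFin ⟨x, hx⟩, by simp⟩
  obtain ⟨j, hj⟩ := Nat.find_spec hex
  refine ⟨Nat.find hex, j, hj, fun a hrel l => ?_⟩
  exact ind_of_minimal J _ j hj (fun n' hn' => Nat.find_min hex hn') a hrel l

end gens

section KF

variable {C' : Type u} [CommRing C'] [IsLocalRing C']
variable {A' : Type u} [CommRing A'] [Algebra C' A'] [Module.Flat C' A']

/-- key flatness fact. -/
theorem mem_of_sum_smul_eq_zero {n : ℕ} (j : Fin n → C')
    (hind : ∀ a : Fin n → C', ∑ l, a l * j l = 0 → ∀ l, a l ∈ maximalIdeal C')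
    (x : Fin n → A') (hx : ∑ l, j l • x l = 0) (l : Fin n) :
    x l ∈ (maximalIdeal C').map (algebraMap C' A') := by
  obtain ⟨k, a, y, hxy, ha⟩ := Module.Flat.isTrivialRelation_of_sum_smul_eq_zero (R := C') (M := A') (f := j) (x := x) hx
  rw [hxy l]
  refine Ideal.sum_mem _ fun p _ => ?_
  rw [Algebra.smul_def]
  apply Ideal.mul_mem_right
  apply Ideal.mem_map_of_mem
  have := hind (fun l => a l p) (by
    rw [← ha p]
    refine Finset.sum_congr rfl fun i _ => mul_comm _ _) l
  exact this

end KF

end Groth.Agent.H5.HBLift
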