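import Mathlib

set_option autoImplicit false
universe u

open TensorProduct

namespace Groth.Agent.H5.HBLift

section X

variable {C : Type u} [CommRing C] {F Q : Type u} [AddCommGroup F] [Module C F]
  [AddCommGroup Q] [Module C Q]

/-- if `F/K` is flat then `K ∩ 𝔫F = 𝔫K`. -/
theorem mem_smul_ker_of_flat [Module.Flat C Q] (π : F →ₗ[C] Q) (hπ : Function.Surjective π)
    (𝔫 : Ideal C) (z : F) (hz : π z = 0) (hz' : z ∈ 𝔫 • (⊤ : Submodule C F)) :
    z ∈ 𝔫 • LinearMap.ker π := by
  have hinj := LinearMap.lTensor_injective_of_exact_of_flat π hπ (LinearMap.ker π).subtype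
    Subtype.val_injective (LinearMap.exact_subtype_ker_map π) (C ⧸ 𝔫)
  have h1 : ((1 : C ⧸ 𝔫) ⊗ₜ[C] z : (C ⧸ 𝔫) ⊗[C] F) = 0 := by
    apply (quotTensorEquivQuotSMul F 𝔫).injective
    rw [quotTensorEquivQuotSMul_mk_one_tmul, map_zero, Submodule.Quotient.mk_eq_zero]
    exact hz'
  have h2 : ((1 : C ⧸ 𝔫) ⊗ₜ[C] (⟨z, hz⟩ : LinearMap.ker π) : (C ⧸ 𝔫) ⊗[C] LinearMap.ker π) = 0 := by
    apply hinj
    rw [LinearMap.lTensor_tmul, map_zero]
    exact h1
  have h3 : (⟨z, hz⟩ : LinearMap.ker π) ∈ 𝔫 • (⊤ : Submodule C (LinearMap.ker π)) := by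
    rw [← Submodule.Quotient.mk_eq_zero, ← quotTensorEquivQuotSMul_mk_one_tmul, h2, map_zero]
  have h4 : z ∈ Submodule.map (LinearMap.ker π).subtype (𝔫 • (⊤ : Submodule C (LinearMap.ker π))) :=
    ⟨_, h3, rfl⟩
  rw [Submodule.map_smul'', Submodule.map_top, Submodule.range_subtype] at h4
  exact h4

end X

section Y

variable {C : Type u} [CommRing C] {K F Q : Type u} [AddCommGroup K] [Module C K]
  [AddCommGroup F] [Module C F] [AddCommGroup Q] [Module C Q]

/-- kernel of a surjection of flat modules is flat. -/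
theorem flat_of_exact [Module.Flat C F] [Module.Flat C Q] (ι : K →ₗ[C] F) (π : F →ₗ[C] Q)
    (hι : Function.Injective ι) (hπ : Function.Surjective π) (hex : Function.Exact ι π) :
    Module.Flat C K := by
  rw [Module.Flat.iff_lTensor_preserves_injective_linearMap]
  intro N N' _ _ _ _ f hf
  -- K ⊗ N → K ⊗ N' ; compare with F
  have h1 : Function.Injective (ι.rTensor N) := by
    have := LinearMap.lTensor_injective_of_exact_of_flat π hπ ι hι hex N
    intro x y hxy
    apply (TensorProduct.comm C K N).injective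
    apply this
    have e : ∀ t, ι.lTensor N (TensorProduct.comm C K N t) =
        TensorProduct.comm C F N (ι.rTensor N t) := by
      intro t
      induction t using TensorProduct.induction_on with
      | zero => simp
      | tmul a b => simp
      | add a b ha hb => simp only [map_add, ha, hb]
    rw [e, e, hxy]
  have h2 : Function.Injective (f.lTensor F) :=
    Module.Flat.lTensor_preserves_injective_linearMap f hf
  intro x y hxy
  apply h1
  apply h2
  have e : ∀ t, f.lTensor F (ι.rTensor N t) = ι.rTensor N' (f.lTensor K t) := by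
    intro t
    induction t using TensorProduct.induction_on with
    | zero => simp
    | tmul a b => simp
    | add a b ha hb => simp only [map_add, ha, hb]
  rw [e, e, hxy]

end Y

end Groth.Agent.H5.HBLift
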