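import Mathlib
import Groth.Agent.Lib.Helper5.HBLift.B

set_option autoImplicit false
universe u

open TensorProduct

namespace Groth.Agent.H5.HBLift

/-- signed maximal minors. -/
noncomputable abbrev minors {A : Type u} [CommRing A] {r : ℕ} (φ : Matrix (Fin (r + 1)) (Fin r) A)
    (i : Fin (r + 1)) : A :=
  (-1 : A) ^ (i : ℕ) * (φ.submatrix i.succAbove id).det

section coords

variable {C : Type u} [CommRing C] {A : Type u} [CommRing A] [Algebra C A] (𝔫 : Ideal C)

lemma pi_mem_smul_top {n : ℕ} (v : Fin n → A) (hv : ∀ i, v i ∈ 𝔫.map (algebraMap C A)) :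
    v ∈ 𝔫 • (⊤ : Submodule C (Fin n → A)) := by
  classical
  rw [← Finset.univ_sum_single v]
  refine Submodule.sum_mem _ fun i _ => ?_
  have h : v i ∈ 𝔫 • (⊤ : Submodule C A) := by
    rw [Ideal.smul_top_eq_map]; exact hv i
  refine Submodule.smul_induction_on h ?_ ?_
  · intro ν hν a _
    have : (Pi.single i (ν • a) : Fin n → A) = ν • Pi.single i a := by
      rw [← Pi.single_smul]
    rw [this]
    exact Submodule.smul_mem_smul hν Submodule.mem_top
  · intro x y hx hy
    rw [Pi.single_add]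
    exact Submodule.add_mem _ hx hy

lemma smul_coord_mem {n : ℕ} (ν : C) (hν : ν ∈ 𝔫) (x : Fin n → A) (i : Fin n) :
    (ν • x) i ∈ 𝔫.map (algebraMap C A) := by
  rw [Pi.smul_apply, Algebra.smul_def]
  exact Ideal.mul_mem_right _ _ (Ideal.mem_map_of_mem _ hν)

end coords

section main

variable {C : Type u} [CommRing C] {A : Type u} [CommRing A] [Algebra C A] (𝔫 : Ideal C)
variable {r : ℕ} (φ : Matrix (Fin (r + 1)) (Fin r) A)

lemma lc_mem_span (w : Fin (r + 1) → A) :
    Fintype.linearCombination A (minors φ) w ∈ Ideal.span (Set.range (minors φ)) := by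
  rw [Fintype.linearCombination_apply]
  refine Ideal.sum_mem _ fun i _ => ?_
  rw [smul_eq_mul]
  exact Ideal.mul_mem_left _ _ (Ideal.subset_span ⟨i, rfl⟩)

lemma exists_lc_eq_of_mem_span (x : A) (hx : x ∈ Ideal.span (Set.range (minors φ))) :
    ∃ w, Fintype.linearCombination A (minors φ) w = x := by
  have : x ∈ LinearMap.range (Fintype.linearCombination A (minors φ)) := by
    rw [Fintype.range_linearCombination]; exact hx
  exact this

theorem fibre_b [Module.Flat C (A ⧸ Ideal.span (Set.range (minors φ)))]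
    (hex : LinearMap.range φ.mulVecLin = LinearMap.ker (Fintype.linearCombination A (minors φ)))
    (w : Fin (r + 1) → A)
    (hw : Fintype.linearCombination A (minors φ) w ∈ 𝔫.map (algebraMap C A)) :
    ∃ u : Fin r → A, ∀ i, (w - φ.mulVec u) i ∈ 𝔫.map (algebraMap C A) := by
  set Z := Ideal.span (Set.range (minors φ)) with hZ
  let π : A →ₗ[C] A ⧸ Z := (Ideal.Quotient.mkₐ C Z).toLinearMap
  have hπ : Function.Surjective π := Ideal.Quotient.mk_surjective
  have hker : ∀ x, π x = 0 ↔ x ∈ Z := fun x => Ideal.Quotient.eq_zero_iff_mem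
  have h1 : π (Fintype.linearCombination A (minors φ) w) = 0 := (hker _).mpr (lc_mem_span φ w)
  have h2 : Fintype.linearCombination A (minors φ) w ∈ 𝔫 • (⊤ : Submodule C A) := by
    rw [Ideal.smul_top_eq_map]; exact hw
  have h3 := mem_smul_ker_of_flat π hπ 𝔫 _ h1 h2
  have h4 : ∃ w' : Fin (r + 1) → A, (∀ i, w' i ∈ 𝔫.map (algebraMap C A)) ∧
      Fintype.linearCombination A (minors φ) w' = Fintype.linearCombination A (minors φ) w := by
    refine Submodule.smul_induction_on h3 ?_ ?_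
    · intro ν hν κ hκ
      obtain ⟨wκ, rfl⟩ := exists_lc_eq_of_mem_span φ κ ((hker κ).mp hκ)
      refine ⟨ν • wκ, fun i => smul_coord_mem 𝔫 ν hν wκ i, ?_⟩
      rw [LinearMap.map_smul_of_tower]
    · rintro x y ⟨w1, h1, rfl⟩ ⟨w2, h2, rfl⟩
      exact ⟨w1 + w2, fun i => Ideal.add_mem _ (h1 i) (h2 i), map_add _ _ _⟩
  obtain ⟨w', hw', hlc⟩ := h4
  have h5 : w - w' ∈ LinearMap.ker (Fintype.linearCombination A (minors φ)) := by
    rw [LinearMap.mem_ker, map_sub, hlc, sub_self]
  rw [← hex] at h5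
  obtain ⟨u, hu⟩ := h5
  refine ⟨u, fun i => ?_⟩
  rw [Matrix.mulVecLin_apply] at hu
  have : w - φ.mulVec u = w' := by rw [hu]; abel
  rw [this]
  exact hw' i

theorem fibre_a [Module.Flat C A] [Module.Flat C (A ⧸ Ideal.span (Set.range (minors φ)))]
    (hinj : Function.Injective φ.mulVecLin)
    (hex : LinearMap.range φ.mulVecLin = LinearMap.ker (Fintype.linearCombination A (minors φ)))
    (u : Fin r → A) (hu : ∀ i, φ.mulVec u i ∈ 𝔫.map (algebraMap C A)) (c : Fin r) :
    u c ∈ 𝔫.map (algebraMap C A) := by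
  set Z := Ideal.span (Set.range (minors φ)) with hZ
  let lcC : (Fin (r + 1) → A) →ₗ[C] A := (Fintype.linearCombination A (minors φ)).restrictScalars C
  let Q₂ : Submodule C A := LinearMap.range lcC
  let π : A →ₗ[C] A ⧸ Z := (Ideal.Quotient.mkₐ C Z).toLinearMap
  have hπ : Function.Surjective π := Ideal.Quotient.mk_surjective
  have hker : ∀ x, π x = 0 ↔ x ∈ Z := fun x => Ideal.Quotient.eq_zero_iff_mem
  have hexact : Function.Exact Q₂.subtype π := by
    intro x
    rw [hker]
    constructor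
    · intro hx
      obtain ⟨w, rfl⟩ := exists_lc_eq_of_mem_span φ x hx
      exact ⟨⟨_, ⟨w, rfl⟩⟩, rfl⟩
    · rintro ⟨⟨_, ⟨w, rfl⟩⟩, rfl⟩
      exact lc_mem_span φ w
  haveI : Module.Flat C Q₂ := flat_of_exact Q₂.subtype π Subtype.val_injective hπ hexact
  let π₂ : (Fin (r + 1) → A) →ₗ[C] Q₂ := lcC.rangeRestrict
  have hπ₂ : Function.Surjective π₂ := LinearMap.surjective_rangeRestrict lcC
  have hker₂ : ∀ x, π₂ x = 0 ↔ Fintype.linearCombination A (minors φ) x = 0 := by
    intro x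
    constructor
    · intro h
      have := congrArg Subtype.val h
      exact this
    · intro h
      exact Subtype.ext h
  have h1 : π₂ (φ.mulVec u) = 0 := by
    rw [hker₂]
    have : φ.mulVec u ∈ LinearMap.range φ.mulVecLin := ⟨u, rfl⟩
    rw [hex] at this
    exact this
  have h2 : φ.mulVec u ∈ 𝔫 • (⊤ : Submodule C (Fin (r + 1) → A)) := pi_mem_smul_top 𝔫 _ hu
  have h3 := mem_smul_ker_of_flat π₂ hπ₂ 𝔫 _ h1 h2
  have h4 : ∃ u' : Fin r → A, (∀ c, u' c ∈ 𝔫.map (algebraMap C A)) ∧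
      φ.mulVec u' = φ.mulVec u := by
    refine Submodule.smul_induction_on h3 ?_ ?_
    · intro ν hν κ hκ
      have hκ' : κ ∈ LinearMap.ker (Fintype.linearCombination A (minors φ)) := (hker₂ κ).mp hκ
      rw [← hex] at hκ'
      obtain ⟨uκ, rfl⟩ := hκ'
      refine ⟨ν • uκ, fun c => smul_coord_mem 𝔫 ν hν uκ c, ?_⟩
      rw [← Matrix.mulVecLin_apply, LinearMap.map_smul_of_tower]
    · rintro x y ⟨u1, h1, rfl⟩ ⟨u2, h2, rfl⟩
      exact ⟨u1 + u2, fun c => Ideal.add_mem _ (h1 c) (h2 c), Matrix.mulVec_add _ _ _⟩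
  obtain ⟨u', hu', he⟩ := h4
  have : u' = u := hinj (by rw [Matrix.mulVecLin_apply, Matrix.mulVecLin_apply, he])
  rw [← this]
  exact hu' c

end main

end Groth.Agent.H5.HBLift
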