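import Mathlib
import Groth.Agent.Lib.Helper5.HBLift.A
import Groth.Agent.Lib.Helper5.HBLift.C
import Groth.Agent.Lib.Helper5.CA2.HB

set_option autoImplicit false
universe u

open TensorProduct IsLocalRing

namespace Groth.Agent.H5.HBLift

section rel

variable {A' : Type u} [CommRing A'] {A : Type u} [CommRing A] (q : A' →+* A)
variable {r : ℕ} (φ' : Matrix (Fin (r + 1)) (Fin r) A')

lemma minors_map (i : Fin (r + 1)) : minors (φ'.map q) i = q (minors φ' i) := by
  unfold minors
  rw [map_mul, map_pow, map_neg, map_one, RingHom.map_det]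
  rfl

lemma lc_map (w : Fin (r + 1) → A') :
    Fintype.linearCombination A (minors (φ'.map q)) (q ∘ w) =
      q (Fintype.linearCombination A' (minors φ') w) := by
  rw [Fintype.linearCombination_apply, Fintype.linearCombination_apply, map_sum]
  refine Finset.sum_congr rfl fun i _ => ?_
  rw [minors_map, smul_eq_mul, smul_eq_mul, Function.comp_apply, ← map_mul]

lemma lc_mulVec (u : Fin r → A') :
    Fintype.linearCombination A' (minors φ') (φ'.mulVec u) = 0 := by
  have h : ∀ v : Fin (r + 1) → A',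
      Fintype.linearCombination A' (minors φ') v = (H5HB.bord φ' v).det := by
    intro v
    rw [Fintype.linearCombination_apply, H5HB.det_bord]
    refine Finset.sum_congr rfl fun i _ => ?_
    simp only [smul_eq_mul, H5HB.dd, minors]
    ring
  rw [h, H5HB.det_bord_mulVec]

end rel

section setting

variable {C' : Type u} [CommRing C'] [IsLocalRing C'] (J : Ideal C')
variable {A' : Type u} [CommRing A'] [Algebra C' A']

/-- `𝔪 A'`. -/
abbrev mA (C' A' : Type u) [CommRing C'] [IsLocalRing C'] [CommRing A'] [Algebra C' A'] : Ideal A' :=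
  (maximalIdeal C').map (algebraMap C' A')

lemma smul_eq_zero_of_mem (hJ : maximalIdeal C' * J = ⊥) (a : C') (ha : a ∈ J) (x : A')
    (hx : x ∈ mA C' A') : a • x = 0 := by
  have h1 : a • x ∈ J.map (algebraMap C' A') * mA C' A' := by
    rw [Algebra.smul_def]
    exact Ideal.mul_mem_mul (Ideal.mem_map_of_mem _ ha) hx
  rw [mA, ← Ideal.map_mul, mul_comm, hJ, Ideal.map_bot] at h1
  exact h1

lemma mem_iff (hJne : J ≠ ⊤) (x : A') :
    Ideal.Quotient.mk (J.map (algebraMap C' A')) x ∈
        ((maximalIdeal C').map (Ideal.Quotient.mk J)).map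
          (algebraMap (C' ⧸ J) (A' ⧸ J.map (algebraMap C' A'))) ↔ x ∈ mA C' A' := by
  have hcomp : (algebraMap (C' ⧸ J) (A' ⧸ J.map (algebraMap C' A'))).comp (Ideal.Quotient.mk J) =
      (Ideal.Quotient.mk (J.map (algebraMap C' A'))).comp (algebraMap C' A') := by
    ext x
    rfl
  rw [Ideal.map_map, hcomp, ← Ideal.map_map, ← Ideal.mem_comap,
    Ideal.comap_map_of_surjective _ Ideal.Quotient.mk_surjective, ← RingHom.ker_eq_comap_bot,
    Ideal.mk_ker]
  have : J.map (algebraMap C' A') ≤ mA C' A' := Ideal.map_mono (IsLocalRing.le_maximalIdeal hJne)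
  rw [sup_eq_left.mpr this]

lemma dec {n : ℕ} (j : Fin n → C') (hj : Ideal.span (Set.range j) = J) (x : A')
    (hx : x ∈ J.map (algebraMap C' A')) : ∃ y : Fin n → A', x = ∑ l, j l • y l := by
  rw [← hj, Ideal.map_span, ← Set.range_comp, Ideal.mem_span_range_iff_exists_fun] at hx
  obtain ⟨c, hc⟩ := hx
  refine ⟨c, ?_⟩
  rw [← hc]
  refine Finset.sum_congr rfl fun l _ => ?_
  rw [Algebra.smul_def, mul_comm]
  rfl

lemma dec_vec {n s : ℕ} (j : Fin n → C') (hj : Ideal.span (Set.range j) = J) (v : Fin s → A')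
    (hv : ∀ c, v c ∈ J.map (algebraMap C' A')) :
    ∃ Y : Fin n → (Fin s → A'), v = ∑ l, j l • Y l := by
  choose y hy using fun c => dec J j hj (v c) (hv c)
  refine ⟨fun l c => y c l, ?_⟩
  ext c
  rw [hy c, Finset.sum_apply]
  rfl

end setting

end Groth.Agent.H5.HBLift
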