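import Mathlib
import Groth.Agent.Lib.Helper5.HBLift.D

set_option autoImplicit false
universe u

open TensorProduct IsLocalRing

namespace Groth.Agent.H5.HBLift

variable {C' : Type u} [CommRing C'] [IsLocalRing C'] (J : Ideal C')
variable {A' : Type u} [CommRing A'] [Algebra C' A'] [Module.Flat C' A']
variable {r : ℕ} (φ' : Matrix (Fin (r + 1)) (Fin r) A')

/-- the quotient map `A' → A'/JA'`. -/
abbrev qm {C' : Type u} [CommRing C'] (J : Ideal C') (A' : Type u) [CommRing A'] [Algebra C' A'] :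
    A' →+* A' ⧸ J.map (algebraMap C' A') := Ideal.Quotient.mk _

noncomputable instance flatQuot : Module.Flat (C' ⧸ J) (A' ⧸ J.map (algebraMap C' A')) :=
  Module.Flat.of_linearEquiv (Algebra.TensorProduct.quotIdealMapEquivQuotTensor A' J).toLinearEquiv

section fibre

variable (hJne : J ≠ ⊤)
  (hφ1 : Function.Injective (φ'.map (qm J A')).mulVecLin)
  (hφ2 : LinearMap.range (φ'.map (qm J A')).mulVecLin =
    LinearMap.ker (Fintype.linearCombination (A' ⧸ J.map (algebraMap C' A')) (minors (φ'.map (qm J A')))))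
  [Module.Flat (C' ⧸ J) ((A' ⧸ J.map (algebraMap C' A')) ⧸ Ideal.span (Set.range (minors (φ'.map (qm J A')))))]

include hJne hφ1 hφ2 in
theorem fibA (u : Fin r → A') (hu : ∀ i, φ'.mulVec u i ∈ mA C' A') (c : Fin r) :
    u c ∈ mA C' A' := by
  rw [← mem_iff J hJne]
  have := fibre_a ((maximalIdeal C').map (Ideal.Quotient.mk J)) (φ'.map (qm J A')) hφ1 hφ2 ((qm J A') ∘ u)
    (fun i => by
      rw [← RingHom.map_mulVec, mem_iff J hJne]
      exact hu i) c
  exact this

include hJne hφ2 in
theorem fibB (w : Fin (r + 1) → A')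
    (hw : Fintype.linearCombination A' (minors φ') w ∈ mA C' A') :
    ∃ u : Fin r → A', ∀ i, (w - φ'.mulVec u) i ∈ mA C' A' := by
  obtain ⟨ū, hū⟩ := fibre_b ((maximalIdeal C').map (Ideal.Quotient.mk J)) (φ'.map (qm J A')) hφ2 ((qm J A') ∘ w)
    (by rw [lc_map, mem_iff J hJne]; exact hw)
  choose u hu using fun c => Ideal.Quotient.mk_surjective (ū c)
  refine ⟨u, fun i => ?_⟩
  rw [← mem_iff J hJne]
  have e : ū = (qm J A') ∘ u := by
    ext c; exact (hu c).symm
  have := hū i
  rw [e] at this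
  rw [Pi.sub_apply, map_sub, RingHom.map_mulVec]
  exact this

end fibre

section lift

variable (hJ : maximalIdeal C' * J = ⊥) (hJne : J ≠ ⊤)
  {n : ℕ} (j : Fin n → C') (hj : Ideal.span (Set.range j) = J)
  (hind : ∀ a : Fin n → C', ∑ l, a l * j l = 0 → ∀ l, a l ∈ maximalIdeal C')
  (hφ1 : Function.Injective (φ'.map (qm J A')).mulVecLin)
  (hφ2 : LinearMap.range (φ'.map (qm J A')).mulVecLin =
    LinearMap.ker (Fintype.linearCombination (A' ⧸ J.map (algebraMap C' A')) (minors (φ'.map (qm J A')))))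
  [Module.Flat (C' ⧸ J) ((A' ⧸ J.map (algebraMap C' A')) ⧸ Ideal.span (Set.range (minors (φ'.map (qm J A')))))]

include hj in
lemma j_mem (l : Fin n) : j l ∈ J := by
  rw [← hj]; exact Ideal.subset_span ⟨l, rfl⟩

include hJ hJne hj hind hφ1 hφ2 in
theorem inj_lift : Function.Injective φ'.mulVecLin := by
  rw [injective_iff_map_eq_zero]
  intro v hv
  rw [Matrix.mulVecLin_apply] at hv
  have h1 : ∀ c, v c ∈ J.map (algebraMap C' A') := by
    have h0 : (φ'.map (qm J A')).mulVecLin ((qm J A') ∘ v) = 0 := by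
      ext i
      rw [Matrix.mulVecLin_apply, ← RingHom.map_mulVec, hv]
      simp
    have h0' : (qm J A') ∘ v = 0 := hφ1 (by rw [h0, map_zero])
    intro c
    have := congrFun h0' c
    exact Ideal.Quotient.eq_zero_iff_mem.mp this
  obtain ⟨Y, hY⟩ := dec_vec J j hj v h1
  have h2 : ∀ i, ∑ l, j l • (φ'.mulVec (Y l) i) = 0 := by
    intro i
    have : φ'.mulVec v = ∑ l, j l • φ'.mulVec (Y l) := by
      rw [hY, ← Matrix.mulVecLin_apply, map_sum]
      refine Finset.sum_congr rfl fun l _ => ?_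
      rw [LinearMap.map_smul_of_tower, Matrix.mulVecLin_apply]
    have h3 := congrFun this i
    rw [hv, Finset.sum_apply] at h3
    exact h3.symm
  have h3 : ∀ l i, φ'.mulVec (Y l) i ∈ mA C' A' := fun l i =>
    mem_of_sum_smul_eq_zero j hind (fun l => φ'.mulVec (Y l) i) (h2 i) l
  have h4 : ∀ l c, Y l c ∈ mA C' A' := fun l c => fibA J φ' hJne hφ1 hφ2 (Y l) (h3 l) c
  ext c
  rw [hY, Finset.sum_apply]
  refine Finset.sum_eq_zero fun l _ => ?_
  exact smul_eq_zero_of_mem J hJ (j l) (j_mem J j hj l) _ (h4 l c)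

include hJ hJne hj hind hφ2 in
theorem exact_lift :
    LinearMap.range φ'.mulVecLin = LinearMap.ker (Fintype.linearCombination A' (minors φ')) := by
  apply le_antisymm
  · rintro _ ⟨u, rfl⟩
    rw [LinearMap.mem_ker, Matrix.mulVecLin_apply]
    exact lc_mulVec φ' u
  · intro w hw
    rw [LinearMap.mem_ker] at hw
    -- reduce mod J
    have h0 : (qm J A') ∘ w ∈ LinearMap.ker
        (Fintype.linearCombination (A' ⧸ J.map (algebraMap C' A')) (minors (φ'.map (qm J A')))) := by
      rw [LinearMap.mem_ker, lc_map, hw, map_zero]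
    rw [← hφ2] at h0
    obtain ⟨ū, hū⟩ := h0
    choose u hu using fun c => Ideal.Quotient.mk_surjective (ū c)
    have e : ū = (qm J A') ∘ u := by
      ext c; exact (hu c).symm
    rw [e, Matrix.mulVecLin_apply] at hū
    have h1 : ∀ i, (w - φ'.mulVec u) i ∈ J.map (algebraMap C' A') := by
      intro i
      apply Ideal.Quotient.eq_zero_iff_mem.mp
      rw [Pi.sub_apply, map_sub, RingHom.map_mulVec, hū]
      simp
    obtain ⟨Y, hY⟩ := dec_vec J j hj (w - φ'.mulVec u) h1
    have h2 : ∑ l, j l • Fintype.linearCombination A' (minors φ') (Y l) = 0 := by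
      have : Fintype.linearCombination A' (minors φ') (w - φ'.mulVec u) = 0 := by
        rw [map_sub, hw, lc_mulVec, sub_zero]
      rw [hY, map_sum] at this
      rw [← this]
      refine Finset.sum_congr rfl fun l _ => ?_
      rw [LinearMap.map_smul_of_tower]
    have h3 : ∀ l, Fintype.linearCombination A' (minors φ') (Y l) ∈ mA C' A' := fun l =>
      mem_of_sum_smul_eq_zero j hind _ h2 l
    choose U hU using fun l => fibB J φ' hJne hφ2 (Y l) (h3 l)
    have h4 : ∀ l, j l • Y l = j l • φ'.mulVec (U l) := by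
      intro l
      ext i
      have := smul_eq_zero_of_mem J hJ (j l) (j_mem J j hj l) _ (hU l i)
      rw [Pi.sub_apply, smul_sub, sub_eq_zero] at this
      exact this
    refine ⟨u + ∑ l, j l • U l, ?_⟩
    rw [map_add, map_sum, Matrix.mulVecLin_apply]
    have h5 : ∑ l, φ'.mulVecLin (j l • U l) = w - φ'.mulVec u := by
      rw [hY]
      refine Finset.sum_congr rfl fun l _ => ?_
      rw [LinearMap.map_smul_of_tower, Matrix.mulVecLin_apply, h4 l]
    rw [h5]
    abel

end lift

end Groth.Agent.H5.HBLift
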