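import Mathlib
import Groth.Agent.Lib.Helper5.HBLift.E
import Groth.Agent.Lib.Helper5.DefAut.A
import Groth.Agent.Lib.Helper1.FlatNilpotent

set_option autoImplicit false
universe u

open TensorProduct IsLocalRing

namespace Groth.Agent.H5.HBLift

open Groth.Agent.H5.DefId

variable {C' : Type u} [CommRing C'] [IsLocalRing C'] (J : Ideal C')
variable {A' : Type u} [CommRing A'] [Algebra C' A'] [Module.Flat C' A']
variable {r : ℕ} (φ' : Matrix (Fin (r + 1)) (Fin r) A')

/-- the quotient map `A' → A'/(minors)` as a `C'`-linear map. -/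
noncomputable abbrev piB (C' : Type u) [CommRing C'] {A' : Type u} [CommRing A'] [Algebra C' A']
    {r : ℕ} (φ' : Matrix (Fin (r + 1)) (Fin r) A') :
    A' →ₗ[C'] (A' ⧸ Ideal.span (Set.range (minors φ'))) :=
  (Ideal.Quotient.mkₐ C' (Ideal.span (Set.range (minors φ')))).toLinearMap

omit [IsLocalRing C'] [Module.Flat C' A'] in
lemma rTensor_piB_smul (I : Ideal C') (a : A') (ha : a ∈ Ideal.span (Set.range (minors φ')))
    (t : A' ⊗[C'] ↥I) : LinearMap.rTensor ↥I (piB C' φ') (a • t) = 0 := by
  induction t using TensorProduct.induction_on with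
  | zero => simp
  | tmul x μ =>
    rw [smul_tmul', LinearMap.rTensor_tmul]
    have : piB C' φ' (a • x) = 0 := by
      show Ideal.Quotient.mk _ (a • x) = 0
      rw [Ideal.Quotient.eq_zero_iff_mem, smul_eq_mul]
      exact Ideal.mul_mem_right _ _ ha
    rw [this, zero_tmul]
  | add x y hx hy => rw [smul_add, map_add, hx, hy, add_zero]

section

variable (hJne : J ≠ ⊤)
  (hφ2 : LinearMap.range (φ'.map (qm J A')).mulVecLin =
    LinearMap.ker (Fintype.linearCombination (A' ⧸ J.map (algebraMap C' A')) (minors (φ'.map (qm J A')))))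
  [Module.Flat (C' ⧸ J) ((A' ⧸ J.map (algebraMap C' A')) ⧸ Ideal.span (Set.range (minors (φ'.map (qm J A')))))]

include hJne hφ2 in
theorem mult_injective_B :
    Function.Injective (mult (maximalIdeal C') (A' ⧸ Ideal.span (Set.range (minors φ')))) := by
  rw [injective_iff_map_eq_zero]
  intro z hz
  obtain ⟨y, rfl⟩ := LinearMap.rTensor_surjective ↥(maximalIdeal C') (g := piB C' φ')
    Ideal.Quotient.mk_surjective z
  rw [mult_rTensor] at hz
  have h1 : mult (maximalIdeal C') A' y ∈ Ideal.span (Set.range (minors φ')) :=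
    Ideal.Quotient.eq_zero_iff_mem.mp hz
  have h2 : mult (maximalIdeal C') A' y ∈ mA C' A' := mult_mem (maximalIdeal C') y
  obtain ⟨w, hw⟩ := exists_lc_eq_of_mem_span φ' _ h1
  obtain ⟨u, hu⟩ := fibB J φ' hJne hφ2 w (by rw [hw]; exact h2)
  have h3 : Fintype.linearCombination A' (minors φ') (w - φ'.mulVec u) =
      mult (maximalIdeal C') A' y := by
    rw [map_sub, lc_mulVec, sub_zero, hw]
  choose yy hyy using fun i => exists_mult_eq (maximalIdeal C') (hu i)
  have h4 : mult (maximalIdeal C') A' (∑ i, minors φ' i • yy i) = mult (maximalIdeal C') A' y := by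
    rw [map_sum, ← h3, Fintype.linearCombination_apply]
    refine Finset.sum_congr rfl fun i _ => ?_
    rw [Groth.Agent.H5.DefAut.mult_smul, hyy i, smul_eq_mul, smul_eq_mul, mul_comm]
  have h5 : y = ∑ i, minors φ' i • yy i := (mult_injective (maximalIdeal C') A' h4).symm
  rw [h5, map_sum]
  refine Finset.sum_eq_zero fun i _ => ?_
  exact rTensor_piB_smul φ' _ _ (Ideal.subset_span ⟨i, rfl⟩) _

include hJne hφ2 in
theorem flat_lift [IsArtinianRing C'] :
    Module.Flat C' (A' ⧸ Ideal.span (Set.range (minors φ'))) := by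
  have hnil : IsNilpotent (maximalIdeal C') := by
    have := IsArtinianRing.isNilpotent_jacobson_bot (R := C')
    rwa [IsLocalRing.jacobson_eq_maximalIdeal ⊥ bot_ne_top] at this
  haveI : Module.Flat (C' ⧸ maximalIdeal C')
      ((C' ⧸ maximalIdeal C') ⊗[C'] (A' ⧸ Ideal.span (Set.range (minors φ')))) := by
    letI := Ideal.Quotient.field (maximalIdeal C')
    infer_instance
  apply Groth.Agent.H1.flat_of_isNilpotent_of_flat_quotient (maximalIdeal C') hnil
  have hmi := mult_injective_B J φ' hJne hφ2
  have e : ∀ t : ↥(maximalIdeal C') ⊗[C'] (A' ⧸ Ideal.span (Set.range (minors φ'))),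
      mult (maximalIdeal C') _ (TensorProduct.comm C' _ _ t) =
        TensorProduct.lid C' _ ((maximalIdeal C').subtype.rTensor _ t) := by
    intro t
    induction t using TensorProduct.induction_on with
    | zero => simp
    | tmul μ b => simp
    | add a b ha hb => simp only [map_add, ha, hb]
  intro x y hxy
  apply (TensorProduct.comm C' _ _).injective
  apply hmi
  rw [e, e, hxy]

end

end Groth.Agent.H5.HBLift
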