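import Mathlib
import Groth.Agent.Lib.Helper5.HBLift.F

set_option autoImplicit false
universe u

open TensorProduct IsLocalRing

namespace Groth.Agent.H5.HBLift

theorem main (C' : Type u) [CommRing C'] [IsLocalRing C'] [IsArtinianRing C'] (J : Ideal C')
    (hJ : maximalIdeal C' * J = ⊥) (hJne : J ≠ ⊤) (A' : Type u) [CommRing A'] [Algebra C' A']
    [Module.Flat C' A'] (r : ℕ) (φ' : Matrix (Fin (r + 1)) (Fin r) A')
    (hφ1 : Function.Injective (φ'.map (qm J A')).mulVecLin)
    (hφ2 : LinearMap.range (φ'.map (qm J A')).mulVecLin =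
      LinearMap.ker (Fintype.linearCombination (A' ⧸ J.map (algebraMap C' A'))
        (minors (φ'.map (qm J A')))))
    [Module.Flat (C' ⧸ J) ((A' ⧸ J.map (algebraMap C' A')) ⧸
      Ideal.span (Set.range (minors (φ'.map (qm J A')))))] :
    Function.Injective φ'.mulVecLin ∧
      LinearMap.range φ'.mulVecLin = LinearMap.ker (Fintype.linearCombination A' (minors φ')) ∧
      Module.Flat C' (A' ⧸ Ideal.span (Set.range (minors φ'))) := by
  haveI : IsNoetherianRing C' := inferInstance
  obtain ⟨n, j, hj, hind⟩ := exists_gens J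
  exact ⟨inj_lift J φ' hJ hJne j hj hind hφ1 hφ2, exact_lift J φ' hJ hJne j hj hind hφ2,
    flat_lift J φ' hJne hφ2⟩

end Groth.Agent.H5.HBLift
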